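import Groth.Agent.ModEtQcLib.PushFinite
import Groth.Agent.ModEtQcLib.ProjSec
import Groth.Agent.ModEtQcLib.Supp
import Groth.Agent.AlgSpLib.AffineFpqc
import Groth.Agent.AlgSpLib.Fppf
import Groth.Prelude.Def_AlgSpMor5
import Mathlib.RingTheory.Spectrum.Prime.FreeLocus
import Mathlib.RingTheory.Flat.EquationalCriterion

/-!
# Finite locally free morphisms and finite locally free direct images
-/

set_option autoImplicit false
set_option synthInstance.maxHeartbeats 200000
set_option maxHeartbeats 800000
set_option backward.isDefEq.respectTransparency false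
set_option backward.isDefEq.respectTransparency.types false
universe u
open CategoryTheory CategoryTheory.Limits AlgebraicGeometry Opposite AlgSp TopologicalSpace
open scoped TensorProduct

noncomputable section

namespace FinLocFreePushLib

open ModEtQc

variable {S : Scheme.{u}} {X : Sp S} {E₀ : EtOver X}

theorem exists_coprod_iso (J : Type (u + 1)) :
    Nonempty ((∐ fun _ : J => ringMod E₀ : ModuleCat.{u + 1} (Ring E₀)) ≅ ModuleCat.of (Ring E₀) (J →₀ Ring E₀)) := by
  classical
  let P : ModuleCat.{u + 1} (Ring E₀) := ∐ fun _ : J => ringMod E₀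
  let F := ModuleCat.of (Ring E₀) (J →₀ Ring E₀)
  let sg : J → (ringMod E₀ ⟶ F) := fun j => ModuleCat.ofHom (Finsupp.lsingle j : Ring E₀ →ₗ[Ring E₀] (J →₀ Ring E₀))
  let a : P ⟶ F := Sigma.desc sg
  let g : J → P := fun j => Sigma.ι (fun _ : J => ringMod E₀) j (1 : Ring E₀)
  let b : F ⟶ P := ModuleCat.ofHom (Finsupp.linearCombination (Ring E₀) g)
  have hj : ∀ j (r : Ring E₀), a (Sigma.ι (fun _ : J => ringMod E₀) j r) = Finsupp.single j r := fun j r =>
    congrArg (fun φ : ringMod E₀ ⟶ F => φ r) (Sigma.ι_desc sg j)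
  refine ⟨{ hom := a, inv := b, hom_inv_id := Sigma.hom_ext _ _ fun j => ModuleCat.hom_ext (LinearMap.ext fun r => ?_),
            inv_hom_id := ModuleCat.hom_ext (Finsupp.lhom_ext fun j r => ?_) }⟩
  · change b (a (Sigma.ι (fun _ : J => ringMod E₀) j r)) = Sigma.ι (fun _ : J => ringMod E₀) j r
    rw [hj]
    refine (Finsupp.linearCombination_single (Ring E₀) (v := g) r j).trans ?_
    exact (map_smul (Sigma.ι (fun _ : J => ringMod E₀) j).hom (show Ring E₀ from r) (1 : Ring E₀)).symm.trans
      (congrArg _ (mul_one (show Ring E₀ from r)))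
  · change a (Finsupp.linearCombination (Ring E₀) g (Finsupp.single j r)) = Finsupp.single j r
    rw [Finsupp.linearCombination_single]
    refine (map_smul a.hom r (g j)).trans ?_
    refine (congrArg (r • ·) (hj j 1)).trans ?_
    exact (Finsupp.smul_single r j (1 : Ring E₀)).trans (congrArg _ (mul_one r))

theorem exists_free_iso (J : Type (u + 1)) :
    Nonempty ((tildeF E₀).obj (ModuleCat.of (Ring E₀) (J →₀ Ring E₀)) ≅ SheafOfModules.free (R := OEtOn E₀) J) := by
  obtain ⟨e⟩ := isIso_tilde_ring (E₀ := E₀)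
  obtain ⟨c⟩ := exists_coprod_iso (E₀ := E₀) J
  exact ⟨(tildeF E₀).mapIso c.symm ≪≫ PreservesCoproduct.iso (tildeF E₀) _ ≪≫ Sigma.mapIso fun _ => e⟩

/-- Sections over an affine object below a free piece. -/
theorem free_sec_of_hom {M : ModEt X} {J : Type (u + 1)} (e : SheafOfModules.free (R := OEtOn E₀) J ≅ M.over E₀)
    {W : EtOver X} [IsAffine W.obj.left.left] (g : W ⟶ E₀) : Module.Free (Ring W) (sec M W) := by
  obtain ⟨c⟩ := exists_free_iso (E₀ := E₀) J
  let Z : Over E₀ := Over.mk g
  haveI : IsAffine Z.left.obj.left.left := ‹IsAffine W.obj.left.left›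
  let F := J →₀ Ring E₀
  let H := (tildeF E₀).obj (ModuleCat.of (Ring E₀) F)
  let tu : Ring Z.left ⊗[Ring E₀] F →ₗ[Ring Z.left] secP H.val Z :=
    { toFun := fun x => appP (tildeUnit F) Z x
      map_add' := map_add ((tildeUnit (E₀ := E₀) F).app (op Z)).hom
      map_smul' := map_smul ((tildeUnit (E₀ := E₀) F).app (op Z)).hom }
  let φ : H ≅ M.over E₀ := c ≪≫ e
  let a : secP H.val Z →ₗ[Ring Z.left] sec M Z.left :=
    { toFun := fun x => appP φ.hom.val Z x
      map_add' := map_add (φ.hom.val.app (op Z)).hom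
      map_smul' := map_smul (φ.hom.val.app (op Z)).hom }
  have ha : Function.Bijective a := Function.bijective_iff_has_inverse.2 ⟨fun y => appP φ.inv.val Z y,
    fun x => congrArg (fun ψ : H ⟶ H => appP ψ.val Z x) φ.hom_inv_id,
    fun y => congrArg (fun ψ : M.over E₀ ⟶ M.over E₀ => appP ψ.val Z y) φ.inv_hom_id⟩
  haveI hT : Module.Free (Ring Z.left) (Ring Z.left ⊗[Ring E₀] F) := inferInstance
  haveI : Module.Free (Ring Z.left) (secP H.val Z) :=
    Module.Free.of_equiv' hT (LinearEquiv.ofBijective tu (bijective_tildeUnit F Z))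
  exact (Module.Free.of_equiv' ‹_› (LinearEquiv.ofBijective a ha) : Module.Free (Ring Z.left) (sec M Z.left))

/-- A free module of sections gives a free piece. -/
theorem exists_generators_free (M : ModEt X) (hM : BC M) [IsAffine E₀.obj.left.left]
    [Module.Finite (Ring E₀) (sec M E₀)] [Module.Free (Ring E₀) (sec M E₀)] :
    ∃ σ : (M.over E₀).GeneratingSections, σ.IsFiniteType ∧ IsIso σ.π := by
  let J := Module.Free.ChooseBasisIndex (Ring E₀) (sec M E₀)
  let N : ModuleCat.{u + 1} (Ring E₀) := (Γt E₀).obj (M.over E₀)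
  let b : (J →₀ Ring E₀) ≃ₗ[Ring E₀] sec M E₀ := (Module.Free.chooseBasis (Ring E₀) (sec M E₀)).repr.symm
  obtain ⟨c⟩ := exists_free_iso (E₀ := E₀) J
  haveI := isIso_counit_of_isTilde (hM E₀ ‹_›)
  let bN : ModuleCat.of (Ring E₀) (J →₀ Ring E₀) ≅ N :=
    LinearEquiv.toModuleIso
      ({ toFun := fun x => (show N from b x), invFun := fun y => b.symm (show sec M E₀ from y)
         left_inv := b.left_inv, right_inv := b.right_inv, map_add' := map_add b,
         map_smul' := map_smul b } : (J →₀ Ring E₀) ≃ₗ[Ring E₀] N)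
  let e : SheafOfModules.free (R := OEtOn E₀) J ≅ M.over E₀ :=
    c.symm ≪≫ (tildeF E₀).mapIso bN ≪≫ asIso ((tildeAdj E₀).counit.app (M.over E₀))
  let σ : (M.over E₀).GeneratingSections :=
    { I := J
      s := (M.over E₀).freeHomEquiv e.hom
      epi := by rw [Equiv.symm_apply_apply]; infer_instance }
  refine ⟨σ, ⟨inferInstanceAs (Finite J)⟩, ?_⟩
  change IsIso ((M.over E₀).freeHomEquiv.symm ((M.over E₀).freeHomEquiv e.hom))
  rw [Equiv.symm_apply_apply]
  infer_instance

/-- Sections of a finite locally free module over affine objects. -/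
theorem finite_projective_sec (hX : IsAlgSpace X) (M : ModEt X) (hM : BC M) (q : SheafOfModules.LocalGeneratorsData.{u + 1} M)
    (hq : q.IsLocallyFreeData) (hq' : q.IsFiniteType) (E : EtOver X) [IsAffine E.obj.left.left] :
    Module.Finite (Ring E) (sec M E) ∧ Module.Projective (Ring E) (sec M E) := by
  haveI : M.IsFiniteType := { exists_localGeneratorsData := ⟨q, hq'⟩ }
  refine ⟨finite_sec M hM E, ?_⟩
  obtain ⟨n, Y, g, hY, hg, hcov⟩ := exists_finite_affine_refinement (q.coversTop E)
  refine projective_sec_of_cover M hM Y g hY hcov fun i => ?_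
  obtain ⟨j, ⟨k⟩⟩ := hg i
  haveI := hY i
  haveI := hq.isIso j
  haveI : Module.Free (Ring (Y i)) (sec M (Y i)) := free_sec_of_hom (asIso (q.generators j).π) k
  exact Module.Projective.of_free

theorem isUnit_rho_basicOpen (E : EtOver X) (r : Ring E) :
    IsUnit (rho (openHom E (E.obj.left.left.basicOpen r.down)) r) := by
  let U := E.obj.left.left
  let V := U.basicOpen r.down
  have h : IsUnit (V.ι.appTop r.down) := by
    rw [Scheme.Opens.ι_appTop]
    have hle : V.ι ''ᵁ ⊤ ≤ V := le_of_eq V.ι_image_top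
    rw [show (homOfLE (le_top : V.ι ''ᵁ ⊤ ≤ (⊤ : U.Opens))).op = (homOfLE (U.basicOpen_le r.down)).op ≫ (homOfLE hle).op
      from Subsingleton.elim _ _, Functor.map_comp, CommRingCat.comp_apply]
    exact (U.toRingedSpace.isUnit_res_basicOpen r.down).map _
  rw [show rho (openHom E V) r = (ULift.ringEquiv (R := Γ((V : Scheme.{u}), ⊤))).symm (V.ι.appTop r.down) from rfl]
  exact h.map _

theorem exists_free_nbhd (M : ModEt X) (hM : BC M) (E : EtOver X) [IsAffine E.obj.left.left]
    [Module.Finite (Ring E) (sec M E)] [Module.Projective (Ring E) (sec M E)] (v : E.obj.left.left) :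
    ∃ V : E.obj.left.left.Opens, v ∈ V ∧ IsAffineOpen V ∧ Module.Finite (Ring (openObj E V)) (sec M (openObj E V)) ∧
      Module.Free (Ring (openObj E V)) (sec M (openObj E V)) := by
  let A := Ring E
  let N := sec M E
  haveI : Module.FinitePresentation A N := Module.finitePresentation_of_projective A N
  let P := primeRing E v
  have hx : (⟨P, inferInstance⟩ : PrimeSpectrum A) ∈ Module.freeLocus A N := by
    rw [Module.freeLocus_eq_univ]
    trivial
  haveI : Module.Free (Localization.AtPrime P) (LocalizedModule P.primeCompl N) := hx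
  obtain ⟨r, hr, hr', -⟩ := Module.FinitePresentation.exists_free_localizedModule_powers P.primeCompl
    (LocalizedModule.mkLinearMap P.primeCompl N) (Localization.AtPrime P)
  haveI := hr'
  let U := E.obj.left.left
  let V := U.basicOpen r.down
  have hv : v ∈ V := by
    rw [Scheme.mem_basicOpen_top]
    by_contra h
    exact hr ((IsLocalRing.mem_maximalIdeal _).2 h)
  refine ⟨V, hv, (isAffineOpen_top U).basicOpen r.down, ?_⟩
  let Z : Over E := Over.mk (openHom E V)
  haveI : IsAffine Z.left.obj.left.left := (isAffineOpen_top U).basicOpen r.down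
  have hu : IsUnit (algebraMap A (Ring Z.left) r) := isUnit_rho_basicOpen E r
  let L := Localization (Submonoid.powers r)
  letI : Algebra L (Ring Z.left) := (IsLocalization.Away.lift r hu).toAlgebra
  haveI : IsScalarTower A L (Ring Z.left) := IsScalarTower.of_algebraMap_eq' (IsLocalization.Away.lift_comp r hu).symm
  haveI : Module.Free L (L ⊗[A] N) := Module.Free.of_equiv
    (IsLocalizedModule.isBaseChange (Submonoid.powers r) L
      (LocalizedModule.mkLinearMap (Submonoid.powers r) N)).equiv.symm
  let e : Ring Z.left ⊗[A] N ≃ₗ[Ring Z.left] sec M Z.left :=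
    LinearEquiv.ofBijective
      { toFun := evS M Z, map_add' := map_add _, map_smul' := fun b x => evS_smul M Z b x }
      ((isTilde_iff_evS M E).1 (hM E ‹_›) Z ‹_›)
  haveI : Module.Free (Ring Z.left) (Ring Z.left ⊗[A] N) :=
    Module.Free.of_equiv (TensorProduct.AlgebraTensorModule.cancelBaseChange A L (Ring Z.left) (Ring Z.left) N)
  have h1 : Module.Finite (Ring Z.left) (Ring Z.left ⊗[A] N) := Module.Finite.base_change A (Ring Z.left) N
  exact ⟨(@Module.Finite.equiv (Ring Z.left) (Ring Z.left ⊗[A] N) (sec M Z.left) _ _ _ _ _ h1 e),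
    (Module.Free.of_equiv' ‹_› e : Module.Free (Ring Z.left) (sec M Z.left))⟩

theorem exists_locallyFreeData (M : ModEt X) (hM : BC M)
    (h : ∀ E : EtOver X, IsAffine E.obj.left.left →
      Module.Finite (Ring E) (sec M E) ∧ Module.Projective (Ring E) (sec M E)) :
    ∃ q : SheafOfModules.LocalGeneratorsData.{u + 1} M, q.IsLocallyFreeData ∧ q.IsFiniteType := by
  let I := {W : EtOver X // IsAffine W.obj.left.left ∧ Module.Finite (Ring W) (sec M W) ∧ Module.Free (Ring W) (sec M W)}
  have hc : (etTop X).CoversTop (fun W : I => W.1) := by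
    intro E₁
    obtain ⟨ι, Yc, g, hY, hc⟩ := exists_affine_cover E₁
    have key : ∀ (i : ι) (v : (Yc i).obj.left.left), ∃ V : (Yc i).obj.left.left.Opens, v ∈ V ∧ IsAffineOpen V ∧
        Module.Finite (Ring (openObj (Yc i) V)) (sec M (openObj (Yc i) V)) ∧
        Module.Free (Ring (openObj (Yc i) V)) (sec M (openObj (Yc i) V)) := fun i v => by
      haveI := hY i
      haveI := (h (Yc i) (hY i)).1
      haveI := (h (Yc i) (hY i)).2
      exact exists_free_nbhd M hM (Yc i) v
    choose V hv hVa hVf hVfree using key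
    refine (etTop X).superset_covering ?_ (ofArrows_mem_etTop
      (fun p : Σ i, (Yc i).obj.left.left => openObj (Yc p.1) (V p.1 p.2))
      (fun p => openHom (Yc p.1) (V p.1 p.2) ≫ g p.1) (fun x => ?_))
    · rw [Sieve.generate_le_iff]
      intro Y' q hq
      obtain ⟨p⟩ := hq
      exact ⟨⟨openObj (Yc p.1) (V p.1 p.2), hVa p.1 p.2, hVf p.1 p.2, hVfree p.1 p.2⟩, ⟨𝟙 _⟩⟩
    · obtain ⟨i, w, hw⟩ := hc x
      exact ⟨⟨i, w⟩, ⟨w, hv i w⟩, hw⟩
  have hgen : ∀ W : I, ∃ σ : (M.over W.1).GeneratingSections, σ.IsFiniteType ∧ IsIso σ.π := fun W => by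
    haveI := W.2.1
    haveI := W.2.2.1
    haveI := W.2.2.2
    exact exists_generators_free M hM
  choose G hG hG' using hgen
  let q : SheafOfModules.LocalGeneratorsData (J := etTop X) (R := OEtRing X) M :=
    { I := I, X := fun W => W.1, coversTop := hc, generators := G }
  have h1 : q.IsFiniteType := { isFiniteType := hG }
  have h2 : q.IsLocallyFreeData := { isIso := hG' }
  exact ⟨q, h2, h1⟩

end FinLocFreePushLib
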