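import Groth.Agent.FinLocFreePushLib.Main
import Groth.Agent.AlgSpAffLib.Relations
import Groth.Agent.ModEtQcLib.AssPush

/-!
# Finite locally free morphisms through direct images
-/

set_option autoImplicit false
set_option backward.isDefEq.respectTransparency false
set_option backward.isDefEq.respectTransparency.types false
set_option synthInstance.maxHeartbeats 200000
set_option maxHeartbeats 800000
universe u
open CategoryTheory CategoryTheory.Limits AlgebraicGeometry Opposite AlgSp TopologicalSpace

noncomputable section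

namespace FinLocFreePushLib

open ModEtQc AlgSpAff

variable {S : Scheme.{u}} {X Y : Space S} (f : X ⟶ Y) (hf : Representable f.hom)

theorem isAffineMor_of_finLocFree (h : IsFinLocFreeMor f.hom) : IsAffineMor f.hom :=
  AlgSpLib.isAffineMor_iff.2 (AlgSpLib.repWith_mono (fun _ _ g hg => haveI : IsFinite g := hg.1; (inferInstance : IsAffineHom g)) h)

theorem bc_push_unit (haff : IsAffineMor f.hom) : BC ((pushModEt hf).obj (unitModEt X.obj)) :=
  bc_push hf _ bc_unit fun E hE => by
    haveI := hE
    haveI := isAffine_bcObj_of_affineMor hf haff E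
    exact ⟨inferInstance, inferInstance⟩

theorem finite_projective_of_finLocFree (h : IsFinLocFreeMor f.hom) (E : EtOver Y.obj) [IsAffine E.obj.left.left] :
    Module.Finite (Ring E) (sec ((pushModEt hf).obj (unitModEt X.obj)) E) ∧
      Module.Projective (Ring E) (sec ((pushModEt hf).obj (unitModEt X.obj)) E) := by
  obtain ⟨h1, h2, h3⟩ := ((repWith_iff finLocFree f.hom).1 h).2 E.obj.hom _ _ (hf.isPullback E.obj.hom)
  haveI := h1
  haveI := h2
  haveI := h3
  haveI : IsAffine (hf.pullback E.obj.hom).left := isAffine_of_isAffineHom (hf.snd E.obj.hom).left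
  let A := Ring E
  let B := Ring (EtOver.bcObj hf E)
  let e₁ := (ULift.ringEquiv (R := Γ(E.obj.left.left, ⊤))).toRingHom
  let e₂ := (ULift.ringEquiv (R := Γ((EtOver.bcObj hf E).obj.left.left, ⊤))).symm.toRingHom
  have b₁ : Function.Bijective e₁ := (ULift.ringEquiv (R := Γ(E.obj.left.left, ⊤))).bijective
  have b₂ : Function.Bijective e₂ := (ULift.ringEquiv (R := Γ((EtOver.bcObj hf E).obj.left.left, ⊤))).symm.bijective
  have hfin : (bcRho hf E).Finite := by
    rw [bcRho_eq]
    exact (RingHom.Finite.of_surjective _ b₂.2).comp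
      (((HasAffineProperty.iff_of_isAffine (P := @IsFinite)).1 h1).2.comp (RingHom.Finite.of_surjective _ b₁.2))
  have hflat : (bcRho hf E).Flat := by
    rw [bcRho_eq]
    exact RingHom.Flat.comp (RingHom.Flat.comp (RingHom.Flat.of_bijective b₁)
      ((HasRingHomProperty.iff_of_isAffine (P := @Flat)).1 h2)) (RingHom.Flat.of_bijective b₂)
  have hfp : (bcRho hf E).FinitePresentation := by
    rw [bcRho_eq]
    exact (RingHom.FinitePresentation.of_bijective b₂).comp
      (((HasRingHomProperty.iff_of_isAffine (P := @LocallyOfFinitePresentation)).1 h3).comp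
        (RingHom.FinitePresentation.of_bijective b₁))
  letI : Algebra A B := (bcRho hf E).toAlgebra
  haveI : Module.Finite A B := hfin
  haveI : Module.Flat A B := hflat
  haveI : Algebra.FinitePresentation A B := hfp
  haveI : Module.FinitePresentation A B := Module.FinitePresentation.of_finite_of_finitePresentation A B
  change Module.Finite A B ∧ Module.Projective A B
  exact ⟨inferInstance, Module.Flat.projective_of_finitePresentation⟩

theorem finLocFree_snd (haff : IsAffineMor f.hom) (E : EtOver Y.obj) [IsAffine E.obj.left.left]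
    (h : Module.Finite (Ring E) (sec ((pushModEt hf).obj (unitModEt X.obj)) E) ∧
      Module.Projective (Ring E) (sec ((pushModEt hf).obj (unitModEt X.obj)) E)) :
    finLocFree (hf.snd E.obj.hom).left := by
  haveI : IsAffine (hf.pullback E.obj.hom).left := isAffine_bcObj_of_affineMor hf haff E
  let A := Ring E
  let B := Ring (EtOver.bcObj hf E)
  letI : Algebra A B := (bcRho hf E).toAlgebra
  haveI hA : Module.Finite A B := h.1
  haveI hP : Module.Projective A B := h.2
  haveI : Module.FinitePresentation A B := Module.finitePresentation_of_projective A B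
  have hfin : (bcRho hf E).Finite := hA
  have hflat : (bcRho hf E).Flat := inferInstanceAs (Module.Flat A B)
  have hfp : (bcRho hf E).FinitePresentation := inferInstanceAs (Algebra.FinitePresentation A B)
  let e₁ := (ULift.ringEquiv (R := Γ(E.obj.left.left, ⊤))).symm.toRingHom
  let e₂ := (ULift.ringEquiv (R := Γ((EtOver.bcObj hf E).obj.left.left, ⊤))).toRingHom
  have b₁ : Function.Bijective e₁ := (ULift.ringEquiv (R := Γ(E.obj.left.left, ⊤))).symm.bijective
  have b₂ : Function.Bijective e₂ := (ULift.ringEquiv (R := Γ((EtOver.bcObj hf E).obj.left.left, ⊤))).bijective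
  have e : (hf.snd E.obj.hom).left.appTop.hom = e₂.comp ((bcRho hf E).comp e₁) := RingHom.ext fun _ => rfl
  refine ⟨?_, ?_, ?_⟩
  · refine (HasAffineProperty.iff_of_isAffine (P := @IsFinite)).2 ⟨‹_›, ?_⟩
    rw [e]
    exact (RingHom.Finite.of_surjective _ b₂.2).comp (hfin.comp (RingHom.Finite.of_surjective _ b₁.2))
  · refine (HasRingHomProperty.iff_of_isAffine (P := @Flat)).2 ?_
    rw [e]
    exact RingHom.Flat.comp (RingHom.Flat.comp (RingHom.Flat.of_bijective b₁) hflat) (RingHom.Flat.of_bijective b₂)
  · refine (HasRingHomProperty.iff_of_isAffine (P := @LocallyOfFinitePresentation)).2 ?_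
    rw [e]
    exact (RingHom.FinitePresentation.of_bijective b₂).comp (hfp.comp (RingHom.FinitePresentation.of_bijective b₁))

theorem isFinLocFreeMor_of_chart (haff : IsAffineMor f.hom)
    (h : ∀ E : EtOver Y.obj, IsAffine E.obj.left.left → finLocFree (hf.snd E.obj.hom).left) :
    IsFinLocFreeMor f.hom := by
  haveI : IsZariskiLocalAtTarget (finLocFree : MorphismProperty Scheme.{u}) :=
    inferInstanceAs (IsZariskiLocalAtTarget ((@IsFinite : MorphismProperty Scheme.{u}) ⊓ (@Flat ⊓ @LocallyOfFinitePresentation)))
  obtain ⟨U, p, hp, hps⟩ := Y.property.atlas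
  let C : U.left.affineOpens → EtOver Y.obj := fun W => chartObj hp W.1
  have hY : IsAlgSpace Y.obj := Y.property
  have hi : ∀ W, IsAlgSpace ((yon S).obj (C W).obj.left) := fun W => IsAlgSpace.yon_obj _
  have hτ : IsFppfCover (fun W => (yon S).obj (C W).obj.left) (fun W => (C W).obj.hom) := by
    refine ⟨fun W => ⟨AlgSpLib.locP_of_repWith (AlgSpLib.repWith_mono
        (fun _ _ g (hg : Etale g) => (inferInstance : Flat g)) (C W).property),
      AlgSpLib.locP_of_repWith (AlgSpLib.repWith_mono
        (fun _ _ g (hg : Etale g) => (inferInstance : LocallyOfFinitePresentation g)) (C W).property)⟩, fun x => ?_⟩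
    obtain ⟨u, hu⟩ := AlgSpLib.surjective_ofPt hps x
    obtain ⟨W₀, hW₀, hu₀, -⟩ := exists_isAffineOpen_mem_and_subset (X := U.left) (x := u) (U := ⊤) trivial
    obtain ⟨z, hz⟩ := mem_range_chartObj hp hu₀ hu
    refine ⟨⟨W₀, hW₀⟩, Points.ofScheme _ z, ?_⟩
    exact (Points.ofPt_eq_map_ofScheme _ z).symm.trans hz
  have hfpqc := AlgSpLib.isFpqcCover_of_isFppfCover hY hi hτ
  refine (AlgSpLib.isLocalOnBase_fpqc_repWith_of_affine S finLocFree
    (fun _ _ g hg => haveI : IsFinite g := hg.1; (inferInstance : IsAffineHom g)) _ _ hY hi hfpqc f.hom X.property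
    (fun W => (yon S).obj (hf.pullback (C W).obj.hom)) (fun W => (yon S).map (hf.snd (C W).obj.hom))
    (fun W => hf.fst (C W).obj.hom) (fun W => IsAlgSpace.yon_obj _) (fun W => hf.isPullback (C W).obj.hom)).2 fun W => ?_
  haveI : IsAffine (C W).obj.left.left := isAffine_chartObj hp W.2
  exact (repWith_yon_map_iff finLocFree _).2 (h (C W) ‹_›)

end FinLocFreePushLib
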